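import Groth.Agent.Lib.DMon9.ProjQC
import Groth.Agent.Lib.DPush.Coprod
import Groth.Agent.Lib.SheafVan16.Noetherian
import Groth.Agent.Lib.DQC.Classes
import Mathlib.AlgebraicGeometry.Noetherian

/-!
Derived direct images from Noetherian schemes of finite dimension commute with all sums; the projection
formula without quasi-coherence on the source.
-/

set_option autoImplicit false
set_option linter.unusedSectionVars false
set_option linter.style.haveILetI false
set_option backward.isDefEq.respectTransparency false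
set_option backward.isDefEq.respectTransparency.types false
set_option maxHeartbeats 800000

universe u

open CategoryTheory CategoryTheory.Limits AlgebraicGeometry TopologicalSpace Opposite CategoryTheory.Triangulated
open DerivedCategory.TStructure Pretriangulated MonoidalCategory

attribute [local instance] HasDerivedCategory.standard

namespace Groth.Agent.ProjNoeth9

variable {X : Scheme.{u}} [NoetherianSpace ↥X] {d : ℕ} (hX : topologicalKrullDim X ≤ d)
include hX

/-- Grothendieck vanishing on all opens. -/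
theorem subsingleton_hc (M : X.Modules) (p : ℕ) (hp : d < p) (U : X.Opens) :
    Subsingleton (CohFound.Hc ((CohFound.abF X).obj M) p U) := by
  haveI : NoetherianSpace ↥(U : Scheme.{u}) := U.ι.isOpenEmbedding.isInducing.noetherianSpace
  have hd : topologicalKrullDim ((⊤ : Closeds ↥(U : Scheme.{u})) : Set ↥(U : Scheme.{u})) ≤ d := by
    refine le_trans ?_ hX
    exact ((U.ι.isOpenEmbedding.isInducing).comp Topology.IsEmbedding.subtypeVal.isInducing).topologicalKrullDim_le
  have hs : SheafVan16.Supp ((⊤ : Closeds ↥(U : Scheme.{u})) : Set ↥(U : Scheme.{u}))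
      ((CohFound.abF (U : Scheme.{u})).obj (M.restrict U.ι)) := fun x hx _ => absurd trivial hx
  have h := SheafVan16.van_of_supp _ d hd _ hs p hp
  obtain ⟨e⟩ := CohFound.nonempty_hc_abF_restrict U.ι M p ⊤
  rw [Scheme.Hom.image_top_eq_opensRange, Scheme.Opens.opensRange_ι] at e
  exact e.toEquiv.symm.subsingleton

/-- No higher extensions out of `j_! O_U`. -/
theorem subsingleton_ext_gen (U : X.Opens) (M : X.Modules) (p : ℕ) (hp : d < p) :
    Subsingleton (Abelian.Ext.{u} ((DQC.gen X).obj U) M p) :=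
  SiteRlim.subsingleton_ext_freeOn X.sheaf _ M p
    ((CohFound.huExt ((CohFound.abF X).obj M) p _).toEquiv.subsingleton_congr.2 (subsingleton_hc hX M p hp U))

/-- Every object is the derived limit of its truncations. -/
theorem isRlimVia_truncTower (E : DCoh.D X) [HasProduct (CohCx.truncTower E)] :
    CohCx.IsRlimVia (CohCx.truncTower E) (CohCx.truncTowerMap E) E (CohCx.toTruncTower E) := by
  refine SiteRlim.isRlimVia_truncTower (DQC.localGen_gen X) E Set.univ
    (fun U => ⟨⊤, GrothendieckTopology.top_mem _ _, fun {W} g _ => ⟨W, 𝟙 W, g, trivial, Category.id_comp _⟩⟩)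
    fun m V _ => ⟨((d : ℤ) + 1 - m).toNat, fun T hT => ⟨T, hT, fun {W} g hg =>
      ⟨W, 𝟙 W, g, hg, Category.id_comp _, SiteRlim.stable_truncTower E m _ fun n hn k _ _ =>
        subsingleton_ext_gen hX W _ k (by omega)⟩⟩⟩

/-- Classes only see a truncation. -/
theorem bijective_truncTower (E : DCoh.D X) (m : ℤ) (n : ℕ) (hn : (d : ℤ) + 1 - m ≤ n) (U : X.Opens) :
    Function.Bijective fun x : (DerivedCategory.singleFunctor X.Modules m).obj ((DQC.gen X).obj U) ⟶ E =>
      x ≫ CohCx.toTruncTower E n := by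
  haveI := DQC.hasProduct_nat (CohCx.truncTower E)
  have hst : SiteRlim.Stable (CohCx.truncTower E) (CohCx.truncTowerMap E) m n ((DQC.gen X).obj U) :=
    SiteRlim.stable_truncTower E m n fun n' hn' k _ _ => subsingleton_ext_gen hX U _ k (by omega)
  exact hst.bijective (isRlimVia_truncTower hX E)

/-- Classes on opens in arbitrary coproducts have finite support. -/
theorem finFac_classes {ι : Type u} (K : ι → DCoh.D X) [HasCoproduct K] (U : X.Opens) (m : ℤ)
    (x : (DerivedCategory.singleFunctor X.Modules m).obj ((DQC.gen X).obj U) ⟶ ∐ K) : DPush.FinFac K x := by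
  let n := ((d : ℤ) + 1 - m).toNat
  have h1 := bijective_truncTower hX (∐ K) m n (by omega) U
  haveI := DPush.hasCoproduct_D fun i => (t.truncGE (-(n : ℤ))).obj (K i)
  obtain ⟨c, _, hc⟩ := DPush.exists_truncGE_sigma K (-(n : ℤ))
  obtain ⟨s, hs⟩ := DPush.finFac_classes (U := U) (NoetherianSpace.isCompact _)
    (fun _ _ _ _ _ _ _ _ => NoetherianSpace.isCompact _)
    (fun i => (t.truncGE (-(n : ℤ))).obj (K i)) (-(n : ℤ))
    (fun i => (inferInstance : t.IsGE ((t.truncGE (-(n : ℤ))).obj (K i)) _)) m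
    (x ≫ Limits.Sigma.map (f := K) fun i => (t.truncGEπ (-(n : ℤ))).app (K i))
  refine ⟨s, h1.1 ?_⟩
  change (x ≫ DPush.finProj K s) ≫ (t.truncGEπ (-(n : ℤ))).app (∐ K) = x ≫ (t.truncGEπ (-(n : ℤ))).app (∐ K)
  rw [← cancel_mono c, Category.assoc, Category.assoc, Category.assoc, hc, DPush.finProj_map, ← Category.assoc, hs]

/-- Derived direct images commute with all sums. -/
theorem isIso_sigmaComparison {S : Scheme.{u}} (f : X ⟶ S) [QuasiCompact f] [QuasiSeparated f] [DCoh.HasRpush f]
    {ι : Type u} (K : ι → DCoh.D X) [HasCoproduct K] [HasCoproduct fun i => (DCoh.Rpush f).obj (K i)] :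
    IsIso (sigmaComparison (DCoh.Rpush f) K) :=
  DPush.isIso_sigmaDesc f K fun _ _ m x => finFac_classes hX K _ m x

end Groth.Agent.ProjNoeth9

namespace Groth.Agent.ProjNoeth9

open KFlat KFlat.Sch DMon9 Localization.Monoidal

variable {X Y : Scheme.{u}} (f : X ⟶ Y) (V : Y.Opens) [DCoh.HasRpush f] (E : DM X)
  [QuasiCompact f] [QuasiSeparated f] [NoetherianSpace ↥X] {d : ℕ} (hX : topologicalKrullDim X ≤ d)
include hX

theorem nonempty_isColimit_tgtF [DCoh.HasRpush (f ∣_ V)] {ι : Type u}
    (Z : ι → DCoh.D Y)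
    {c : Cocone (Discrete.functor Z)} (hc : IsColimit c) :
    Nonempty (IsColimit ((tgtF f E ⋙ DPerf.resD V.ι).mapCocone c)) := by
  haveI : QuasiCompact (f ∣_ V) := MorphismProperty.IsStableUnderBaseChange.of_isPullback (isPullback_morphismRestrict f V).flip inferInstance
  haveI : QuasiSeparated (f ∣_ V) := MorphismProperty.IsStableUnderBaseChange.of_isPullback (isPullback_morphismRestrict f V).flip inferInstance
  obtain ⟨cV⟩ := DMV.nonempty_restrictD_rpush f V
  haveI := RHom.preservesCoproducts_resD (ι := ι) (f ⁻¹ᵁ V)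
  let G₀ := midF f E ⋙ DPerf.resD (f ⁻¹ᵁ V).ι
  haveI : PreservesColimitsOfShape (Discrete ι) G₀ := inferInstance
  let Z' : ι → DCoh.D (f ⁻¹ᵁ V : Scheme.{u}) := fun i => G₀.obj (Z i)
  haveI := DPush.hasCoproduct_D Z'
  haveI := DPush.hasCoproduct_D fun i => (DCoh.Rpush (f ∣_ V)).obj (Z' i)
  haveI : NoetherianSpace ↥(f ⁻¹ᵁ V : Scheme.{u}) := (f ⁻¹ᵁ V).ι.isOpenEmbedding.isInducing.noetherianSpace
  haveI : IsIso (sigmaComparison (DCoh.Rpush (f ∣_ V)) Z') :=
    ProjNoeth9.isIso_sigmaComparison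
      (((f ⁻¹ᵁ V).ι.isOpenEmbedding.isInducing.topologicalKrullDim_le).trans hX) (f ∣_ V) Z'
  haveI : PreservesColimit (Discrete.functor Z') (DCoh.Rpush (f ∣_ V)) := PreservesCoproduct.of_iso_comparison _ _
  haveI : PreservesColimit (Discrete.functor Z ⋙ G₀) (DCoh.Rpush (f ∣_ V)) :=
    preservesColimit_of_iso_diagram _ (Discrete.natIso fun _ => Iso.refl _ : Discrete.functor Z' ≅ Discrete.functor Z ⋙ G₀)
  let e : G₀ ⋙ DCoh.Rpush (f ∣_ V) ≅ tgtF f E ⋙ DPerf.resD V.ι := Functor.isoWhiskerLeft (midF f E) cV.symm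
  exact ⟨(isColimitOfPreserves (G₀ ⋙ DCoh.Rpush (f ∣_ V)) hc).mapCoconeEquiv e⟩


theorem isIso_projV_tD {V : Y.Opens} (hV : IsAffineOpen V) [DCoh.HasRpush (f ∣_ V)] (E : DM X)
    (M : DerivedCategory (ModuleCat.{u} Γ(Y, V))) :
    IsIso ((projV f V E).app ((tD hV).obj M)) := by
  let R := Γ(Y, V)
  let T := tD hV
  obtain ⟨cs, hR⟩ := DPush.exists_commShift_isTriangulated f
  letI := cs
  haveI := hR
  have hF : ∀ j, RHom.HExact ((srcF f E ⋙ DPerf.resD V.ι) ⋙ DerivedCategory.homologyFunctor _ j) := fun j =>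
    hExact_comp (srcF f E) (homExact_of_isLeftAdjoint _) (DPerf.resD V.ι) j
  have hG : ∀ j, RHom.HExact ((tgtF f E ⋙ DPerf.resD V.ι) ⋙ DerivedCategory.homologyFunctor _ j) := fun j =>
    hExact_comp (midF f E) (homExact_of_isLeftAdjoint _) (DCoh.Rpush f ⋙ DPerf.resD V.ι) j
  let P : DerivedCategory (ModuleCat.{u} R) → Prop := fun N => ∀ n : ℤ, IsIso ((projV f V E).app (T.obj (N⟦n⟧)))
  have hP : Loc P :=
    { iso := fun e h n => (NatTrans.isIso_app_iff_of_iso _ (T.mapIso ((shiftFunctor _ n).mapIso e))).1 (h n)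
      zero := fun {Z} hZ n => by
        have hz : IsZero (T.obj (Z⟦n⟧)) := T.map_isZero ((shiftFunctor _ n).map_isZero hZ)
        haveI : (srcF f E ⋙ DPerf.resD V.ι).PreservesZeroMorphisms := inferInstance
        haveI : (tgtF f E ⋙ DPerf.resD V.ι).PreservesZeroMorphisms := inferInstance
        exact ((srcF f E ⋙ DPerf.resD V.ι).map_isZero hz).isIso ((tgtF f E ⋙ DPerf.resD V.ι).map_isZero hz) _
      shift := fun {Z} m h n => (NatTrans.isIso_app_iff_of_iso _
        (T.mapIso ((shiftFunctorAdd _ m n).app Z))).1 (h (m + n))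
      cone := fun T₀ hT₀ h₁ h₂ n => by
        have hd := T.map_distinguished _ (Triangle.shift_distinguished T₀ hT₀ n)
        refine RHom.isIso_of_isIso_homology _ fun j => ?_
        have hs : ∀ N : DerivedCategory (ModuleCat.{u} R), P N →
            IsIso ((projV f V E).app ((T.obj (N⟦n⟧))⟦(1 : ℤ)⟧)) := fun N hN =>
          (NatTrans.isIso_app_iff_of_iso _ (T.mapIso ((shiftFunctorAdd _ n (1 : ℤ)).app N) ≪≫
            (T.commShiftIso (1 : ℤ)).app _)).1 (hN (n + 1))
        have hmap : ∀ N : DCoh.D Y, IsIso ((projV f V E).app N) →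
            IsIso ((Functor.whiskerRight (projV f V E) (DerivedCategory.homologyFunctor _ j)).app N) := fun N hN =>
          haveI := hN
          inferInstanceAs (IsIso ((DerivedCategory.homologyFunctor _ j).map ((projV f V E).app N)))
        exact RHom.isIso_app_obj₃ (hF j) (hG j) (Functor.whiskerRight (projV f V E) _) _ hd
          (hmap _ (h₁ n)) (hmap _ (h₂ n)) (hmap _ (hs _ h₁)) (hmap _ (hs _ h₂))
      coprod := fun {ι} Z h n => by
        haveI := DCompact9.preservesColimitsOfShape_Q (R := R) (Equiv.refl ι)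
        haveI : PreservesColimitsOfShape (Discrete ι) (T : _ ⥤ DCoh.D Y) := preservesCoproducts_tD hV ι
        haveI : PreservesColimitsOfShape (Discrete ι) (DPerf.resD V.ι) := RHom.preservesCoproducts_resD V
        let H : CochainComplex (ModuleCat.{u} R) ℤ ⥤ DCoh.D Y := DerivedCategory.Q ⋙ shiftFunctor _ n ⋙ T
        have hc := isColimitOfPreserves H (coproductIsCoproduct Z)
        let W : ι → DCoh.D Y := fun i => H.obj (Z i)
        let d : Discrete.functor W ≅ Discrete.functor Z ⋙ H := Discrete.natIso fun _ => Iso.refl _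
        have hc' := (IsColimit.precomposeHomEquiv d _).symm hc
        obtain ⟨hG'⟩ := nonempty_isColimit_tgtF f V E hX W hc'
        haveI : PreservesColimit (Discrete.functor W) (tgtF f E ⋙ DPerf.resD V.ι) :=
          preservesColimit_of_preserves_colimit_cocone hc' hG'
        exact RHom.isIso_app_of_isColimit (projV f V E) hc' fun i => h i.as n }
  have hgen : ∀ a : ℤ, P (DerivedCategory.Q.obj
      ((HomologicalComplex.single (ModuleCat.{u} R) (ComplexShape.up ℤ) a).obj (ModuleCat.of R R))) := by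
    intro a n
    let sh : (DerivedCategory.Q.obj ((HomologicalComplex.single (ModuleCat.{u} R) (ComplexShape.up ℤ) a).obj
        (ModuleCat.of R R)))⟦n⟧ ≅ DerivedCategory.Q.obj
          ((HomologicalComplex.single (ModuleCat.{u} R) (ComplexShape.up ℤ) (a - n)).obj (ModuleCat.of R R)) :=
      ((DerivedCategory.Q.commShiftIso n).app _).symm ≪≫
        DerivedCategory.Q.mapIso (((CochainComplex.singleFunctors _).shiftIso n (a - n) a (by omega)).app _)
    refine (NatTrans.isIso_app_iff_of_iso _ (T.mapIso sh)).2 ?_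
    obtain ⟨s, hs⟩ := exists_comparison hV (a - n)
    haveI := isIso_srcF_map f V E s hs
    haveI := isIso_tgtF_map f V E s hs
    haveI := isIso_projV_single f V E (a - n)
    haveI : IsIso ((projV f V E).app (T.obj _) ≫ (tgtF f E ⋙ DPerf.resD V.ι).map s) := by
      rw [← (projV f V E).naturality s]
      infer_instance
    exact IsIso.of_isIso_comp_right _ ((tgtF f E ⋙ DPerf.resD V.ι).map s)
  have hsep : IsSeparator (ModuleCat.of R R) := (isSeparator_def _).2 fun {A B} g g' hh => by
    ext x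
    have h1 := congrArg (fun t => t.hom 1) (hh (ModuleCat.ofHom (LinearMap.toSpanSingleton R A x)))
    simpa using h1
  have h := hP.all (ModuleCat.of R R) hsep hgen M 0
  exact (NatTrans.isIso_app_iff_of_iso _ (T.mapIso ((shiftFunctorZero _ ℤ).app M))).1 h

theorem isIso_projT (E : DM X) (A : DCoh.D Y) (hA : DCoh.IsQCohD A) :
    IsIso ((projT f E).app A) := by
  refine RHom.isIso_of_cover _ fun y => ?_
  suffices hh : ∀ (V : Y.Opens), IsAffineOpen V → IsIso ((DPerf.resD V.ι).map ((projT f E).app A)) by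
    obtain ⟨V, hV, hy, -⟩ := TopologicalSpace.Opens.isBasis_iff_nbhd.1 Y.isBasis_affineOpens (U := ⊤) (x := y) trivial
    exact ⟨V, hy, hh V hV⟩
  intro V hV
  haveI : DCoh.HasRpush (f ∣_ V) := KInjLib.hasRightDerivedFunctor KInjLib.enoughKInj_of_grothendieck _
  obtain ⟨M, s, hs⟩ := exists_extension_hom hV A hA
  haveI := isIso_srcF_map f V E s hs
  haveI := isIso_tgtF_map f V E s hs
  haveI := isIso_projV_tD f hX hV E M
  haveI : IsIso ((srcF f E ⋙ DPerf.resD V.ι).map s ≫ (projV f V E).app A) := by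
    rw [(projV f V E).naturality s]
    infer_instance
  exact IsIso.of_isIso_comp_left ((srcF f E ⋙ DPerf.resD V.ι).map s) ((projV f V E).app A)

/-- The projection formula. -/
theorem nonempty_projection [DCoh.HasLpull f] (E : DCoh.D X)
    (K : CochainComplex Y.Modules ℤ) (hK : DCoh.IsQCohD (DCoh.toD Y K)) [DCoh.HasLTensorCx K]
    (M : CochainComplex X.Modules ℤ) (hM : Nonempty (DCoh.toD X M ≅ (DCoh.Lpull f).obj (DCoh.toD Y K)))
    [DCoh.HasLTensorCx M] :
    Nonempty ((DCoh.LTensorCx K).obj ((DCoh.Rpush f).obj E) ≅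
      (DCoh.Rpush f).obj ((DCoh.LTensorCx M).obj E)) := by
  obtain ⟨K', ⟨eK⟩, hK'⟩ := nonempty_ltensor_iso K
  obtain ⟨M', ⟨eM⟩, hM'⟩ := nonempty_ltensor_iso M
  obtain ⟨a⟩ := hK' ((DCoh.Rpush f).obj E)
  obtain ⟨b⟩ := hM' E
  obtain ⟨m⟩ := hM
  obtain ⟨l⟩ := nonempty_lpull_iso_lP f (DCoh.toD Y K)
  let EM : DM X := E
  let eL : (dPull f).obj ((qM Y).obj K') ≅ (qM X).obj M' :=
    ((lP f).mapIso eK ≪≫ l.symm ≪≫ m.symm ≪≫ eM.symm :)
  haveI := isIso_projT f hX EM ((qK Y).obj K') (DQC.isQCohD_of_iso eK.symm hK)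
  let p : (tR K').obj ((DCoh.Rpush f).obj E) ≅ (DCoh.Rpush f).obj ((midF f EM).obj ((qK Y).obj K')) :=
    asIso ((projT f EM).app ((qK Y).obj K'))
  let w : (midF f EM).obj ((qK Y).obj K') ≅ (tR M').obj E := whiskerLeftIso EM eL
  exact ⟨a ≪≫ p ≪≫ (DCoh.Rpush f).mapIso (w ≪≫ b.symm)⟩

end Groth.Agent.ProjNoeth9
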